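import Cfsg.Agent.H525.D32.Lie
import Cfsg.Agent.H413.L16.Nel
import Cfsg.Agent.H950.L16.Stab
import Cfsg.Agent.H977.D32.Mat

/-!
# S5916, dimension 32: interface (helper525)

Frame coordinates `v' = z⁻¹ v`; root vectors `er`, root elements `xr` of `H413.L16`.
-/

set_option autoImplicit false
set_option linter.unusedSectionVars false
set_option maxRecDepth 100000

namespace Cfsg.Agent.H525.D32

open Matrix Cfsg Cfsg.Lie Cfsg.Agent.H939.L64
open Cfsg.Agent.H413.L16 (er hv hr xr nn tg)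

/-- the group -/
abbrev GK : Type := ↥(chevE8.group KK)

/-- the permutation `w` of the indices of the roots -/
def WI : List ℕ := [228, 79, 80, 83, 86, 90, 101, 95, 107, 112, 116, 121, 122, 2, 162, 163, 164, 165, 167, 168, 14, 169, 170, 172,
  173, 15, 174, 176, 177, 16, 179, 180, 17, 183, 19, 20, 184, 186, 187, 21, 189, 190, 22, 193, 24, 25, 195, 196,
  26, 199, 28, 29, 202, 31, 32, 35, 205, 206, 36, 209, 38, 39, 212, 41, 42, 45, 216, 47, 48, 51, 54, 221, 57,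
  58, 61, 64, 68, 73, 226, 227, 78, 229, 81, 82, 230, 84, 85, 87, 231, 88, 89, 91, 92, 233, 99, 100, 102, 103,
  104, 232, 93, 94, 96, 97, 98, 234, 105, 106, 108, 109, 235, 110, 111, 113, 236, 114, 115, 238, 119, 239, 0,
  120, 1, 124, 125, 3, 126, 128, 129, 4, 130, 131, 133, 134, 5, 141, 142, 143, 145, 146, 7, 135, 136, 137, 139,
  140, 6, 147, 148, 150, 151, 8, 152, 154, 155, 9, 157, 158, 10, 161, 12, 13, 166, 171, 175, 178, 181, 182, 18,
  185, 188, 191, 192, 23, 194, 197, 198, 27, 200, 201, 30, 203, 33, 34, 204, 207, 208, 37, 210, 211, 40, 213,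
  43, 44, 214, 215, 46, 217, 49, 50, 218, 52, 53, 55, 219, 220, 56, 222, 59, 60, 223, 62, 63, 65, 224, 66, 67,
  69, 70, 225, 71, 72, 74, 75, 76, 77, 237, 117, 118, 123, 127, 132, 144, 138, 149, 153, 156, 159, 160, 11]

/-- the weights of the roots -/
def WT : List ℕ := [4, 6, 7, 8, 8, 8, 8, 8, 8, 8, 8, 9, 10, 12, 9, 9, 9, 9, 10, 11, 13, 9, 9, 10, 11, 13, 9, 10, 11, 13, 10, 11,
  13, 12, 14, 15, 9, 10, 11, 13, 10, 11, 13, 12, 14, 15, 10, 11, 13, 12, 14, 15, 12, 14, 15, 16, 10, 11, 13, 12,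
  14, 15, 12, 14, 15, 16, 12, 14, 15, 16, 16, 12, 14, 15, 16, 16, 16, 16, 11, 12, 14, 13, 15, 16, 13, 15, 16, 0,
  13, 15, 16, 0, 0, 13, 15, 16, 0, 0, 0, 13, 15, 16, 0, 0, 0, 13, 15, 16, 0, 0, 13, 15, 16, 0, 13, 15, 16, 14,
  16, 15, 2, 1, 3, 1, 2, 4, 0, 1, 2, 4, 0, 0, 1, 2, 4, 0, 0, 0, 1, 2, 4, 0, 0, 0, 1, 2, 4, 0, 0, 1, 2, 4, 0, 1,
  2, 4, 1, 2, 4, 3, 5, 6, 1, 1, 1, 1, 2, 3, 5, 1, 1, 2, 3, 5, 1, 2, 3, 5, 2, 3, 5, 4, 6, 7, 1, 2, 3, 5, 2, 3, 5,
  4, 6, 7, 2, 3, 5, 4, 6, 7, 4, 6, 7, 8, 2, 3, 5, 4, 6, 7, 4, 6, 7, 8, 4, 6, 7, 8, 8, 4, 6, 7, 8, 8, 8, 8, 5, 7,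
  8, 9, 9, 9, 9, 9, 9, 9, 9, 10, 11, 13]

/-- the permutation `w` -/
def wi (r : ℕ) : ℕ := WI.getD r 240

/-- the weight of a root -/
def wt (r : ℕ) : ℕ := WT.getD r 0

/-- the roots of weight 0 (type `D₄`) -/
def D4L : List ℕ := [87, 91, 92, 96, 97, 98, 102, 103, 104, 108, 109, 113, 126, 130, 131, 135, 136, 137, 141, 142, 143,
  147, 148, 152]

/-- the roots orthogonal to those of weight 0 (type `D₄`) -/
def DPL : List ℕ := [0, 1, 2, 11, 12, 13, 78, 79, 80, 117, 118, 119, 120, 121, 122, 159, 160, 161, 226, 227, 228, 237,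
  238, 239]

/-- the three orbits of `w` on `DPL` -/
def OG : List ℕ := [122, 1, 79, 227, 117, 238, 160, 12]

/-- the second orbit -/
def OA : List ℕ := [120, 0, 228, 118, 119, 239, 11, 121]

/-- the third orbit -/
def OB : List ℕ := [2, 80, 78, 226, 237, 159, 161, 13]

/-- eight roots of weight 1: `e'₁ + e_{k+1}` (`k < 4`), `e'₁ - e_{k-3}` (`k ≥ 4`) -/
def PI (k : Fin 8) : ℕ := ![156, 153, 149, 138, 123, 127, 132, 144] k

/-- the index of the root `s_k - s_l` of `D4L` -/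
def Tb (k l : Fin 8) : ℕ := ![![240, 126, 131, 143, 240, 152, 148, 137], ![113, 240, 130, 142, 152, 240, 147, 136],
  ![108, 109, 240, 141, 148, 147, 240, 135], ![96, 97, 98, 240, 137, 136, 135, 240],
  ![240, 87, 91, 102, 240, 113, 108, 96], ![87, 240, 92, 103, 126, 240, 109, 97],
  ![91, 92, 240, 104, 131, 130, 240, 98], ![102, 103, 104, 240, 143, 142, 141, 240]] k l

/-- the eight-dimensional space -/
noncomputable def io (v : Fin 8 → KK) : LK := ∑ k, v k • er (PI k)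

/-- the fixed space of `t` -/
def InM (v : LK) : Prop := ∀ r < 240, r ∉ D4L → co v r = 0

/-- the roots of `DPL` vanish -/
def Bad (v : LK) : Prop := ∀ r ∈ DPL, rv (hp v) r = 0

/-- toral elements -/
def Tor (h : LK) : Prop := ∀ v, brK h (brK h v) = brK h v

/-- **the frame of the element `x` of order 17** -/
structure Fr32 (x : E2) (ζ : KK) (z t : GK) (Fp : LK → LK) (FG : GK → GK) : Prop where
  prim : IsPrimitiveRoot ζ 17
  conj : em x = z * t * z⁻¹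
  /-- the torus element -/
  txr : ∀ r < 240, ∀ a, t * xr r a * t⁻¹ = xr r (ζ ^ wt r * a)
  ter : ∀ r < 240, aK t (er r) = ζ ^ wt r • er r
  thv : ∀ c, aK t (hv c) = hv c
  /-- the Frobenius map in frame coordinates -/
  add : ∀ u v, Fp (u + v) = Fp u + Fp v
  smul : ∀ (c : KK) u, Fp (c • u) = c ^ 2 • Fp u
  br : ∀ u v, Fp (brK u v) = brK (Fp u) (Fp v)
  inj : Function.Injective Fp
  fer : ∀ r < 240, Fp (er r) = er (wi r)
  fhv : ∀ c, ∃ c', Fp (hv c) = hv c' ∧ ∀ r < 240, rv c' (wi r) = rv c r ^ 2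
  frob : ∀ v, aK z⁻¹ (fr v) = Fp (aK z⁻¹ v)
  /-- the Frobenius map on the group in frame coordinates -/
  gmul : ∀ g h, FG (g * h) = FG g * FG h
  gxr : ∀ r < 240, ∀ a, FG (xr r a) = xr (wi r) (a ^ 2)
  gact : ∀ g v, Fp (aK g v) = aK (FG g) (Fp v)
  lift : ∀ g, FG g = g → ∃ e : E2, em e = z * g * z⁻¹

/-! ### the relation between the notations -/

theorem E_eq (r : ℕ) : E r = er r := by
  funext a
  rcases a with i | s
  · unfold er
    split
    · rw [Pi.single_eq_of_ne (by simp)]; rfl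
    · rfl
  · rw [Cfsg.Agent.H413.L16.er_inr, E_apply]
    by_cases h : s.val = r
    · rw [if_pos h, if_pos h.symm]
    · rw [if_neg h, if_neg (fun h' => h h'.symm)]

theorem Hv_eq' (c : Fin chevE8.rank → KK) : Hv c = hv c := rfl

theorem xg_eq (r : ℕ) (a : KK) : xg r a = xr r a := rfl

end Cfsg.Agent.H525.D32
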